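import Mathlib

/-!
# The action of a group on `S ⊗[C] T` through the second factor, and its invariants for flat `S`
-/

set_option autoImplicit false
universe u

open TensorProduct

namespace Groth.Agent.H68.IE

namespace Act

variable (C S T : Type*) [CommRing C] [CommRing S] [CommRing T] [Algebra C S] [Algebra C T]
  (G : Type*) [Group G] [MulSemiringAction G T] [SMulCommClass G C T]

/-- `G` acts on `S ⊗[C] T` by `S`-algebra automorphisms through `T`. -/
noncomputable def tensorAut : G →* ((S ⊗[C] T) ≃ₐ[S] (S ⊗[C] T)) where
  toFun g := Algebra.TensorProduct.congr AlgEquiv.refl (MulSemiringAction.toAlgEquiv C T g)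
  map_one' := by
    apply AlgEquiv.ext
    intro z
    induction z using TensorProduct.induction_on with
    | zero => simp
    | tmul s t => simp
    | add x y hx hy => rw [map_add, map_add, hx, hy]
  map_mul' g h := by
    apply AlgEquiv.ext
    intro z
    induction z using TensorProduct.induction_on with
    | zero => simp
    | tmul s t => simp [mul_smul]
    | add x y hx hy => rw [map_add, map_add, hx, hy]

@[simp] lemma tensorAut_tmul (g : G) (s : S) (t : T) :
    tensorAut C S T G g (s ⊗ₜ t) = s ⊗ₜ (g • t) := by
  simp [tensorAut]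

/-- the action of `G` on `S ⊗[C] T` -/
noncomputable abbrev action : MulSemiringAction G (S ⊗[C] T) :=
  MulSemiringAction.compHom _ (tensorAut C S T G)

lemma smul_def (g : G) (z : S ⊗[C] T) :
    letI := action C S T G
    g • z = tensorAut C S T G g z := rfl

lemma smul_tmul' (g : G) (s : S) (t : T) :
    letI := action C S T G
    g • (s ⊗ₜ[C] t) = s ⊗ₜ (g • t) := by
  letI := action C S T G
  rw [smul_def, tensorAut_tmul]

omit [MulSemiringAction G T] [SMulCommClass G C T] in
lemma lTensor_eq_map (T' : Type*) [CommRing T'] [Algebra C T'] (ι : T' →ₐ[C] T)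
    (y : S ⊗[C] T') : (ι.toLinearMap.lTensor S) y =
      Algebra.TensorProduct.map (AlgHom.id S S) ι y := by
  induction y using TensorProduct.induction_on with
  | zero => simp
  | tmul s t' => rfl
  | add x y hx hy => rw [map_add, map_add, hx, hy]

/-- base change of invariants along a flat algebra -/
theorem mem_range_of_invariant [Module.Flat C S] [Finite G]
    (T' : Type*) [CommRing T'] [Algebra C T'] (ι : T' →ₐ[C] T)
    (hfix : ∀ (g : G) (t' : T'), g • ι t' = ι t')
    (hι : ∀ t : T, (∀ g : G, g • t = t) → t ∈ Set.range ι)
    (z : S ⊗[C] T) (hz : ∀ g : G, tensorAut C S T G g z = z) :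
    z ∈ Set.range (Algebra.TensorProduct.map (AlgHom.id S S) ι) := by
  classical
  have : Fintype G := Fintype.ofFinite G
  let f : T' →ₗ[C] T := ι.toLinearMap
  let gg : T →ₗ[C] (G → T) :=
    LinearMap.pi (fun σ => (MulSemiringAction.toAlgHom C T σ).toLinearMap - LinearMap.id)
  have hg : ∀ r σ, gg r σ = σ • r - r := fun r σ => rfl
  have hexact : Function.Exact f gg := by
    intro r
    constructor
    · intro h
      have hinv : ∀ σ : G, σ • r = r := by
        intro σ
        have := congrFun h σ
        rw [hg, Pi.zero_apply, sub_eq_zero] at this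
        exact this
      exact hι r hinv
    · rintro ⟨s, rfl⟩
      funext σ
      rw [hg, Pi.zero_apply, sub_eq_zero]
      exact hfix σ s
  have hex2 : Function.Exact (f.lTensor S) (gg.lTensor S) := Module.Flat.lTensor_exact S hexact
  let e := TensorProduct.piRight C C S (fun _ : G => T)
  have hcomp : ∀ (x : S ⊗[C] T) (σ : G), e ((gg.lTensor S) x) σ =
      tensorAut C S T G σ x - x := by
    intro x σ
    induction x using TensorProduct.induction_on with
    | zero => simp
    | tmul a r =>
      rw [LinearMap.lTensor_tmul]
      change TensorProduct.piRight C C S (fun _ : G => T) (a ⊗ₜ[C] gg r) σ = _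
      rw [TensorProduct.piRight_apply, TensorProduct.piRightHom_tmul]
      change a ⊗ₜ[C] gg r σ = _
      rw [hg, tmul_sub, tensorAut_tmul]
    | add x y hx hy =>
      rw [map_add, map_add, Pi.add_apply, hx, hy, map_add]
      abel
  have h0 : (gg.lTensor S) z = 0 := by
    apply e.injective
    rw [map_zero]
    funext σ
    rw [hcomp, hz σ, sub_self, Pi.zero_apply]
  obtain ⟨y, hy⟩ := (hex2 z).mp h0
  exact ⟨y, by rw [← hy, ← lTensor_eq_map]⟩

omit [MulSemiringAction G T] [SMulCommClass G C T] in
theorem injective_map_of_injective [Module.Flat C S]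
    (T' : Type*) [CommRing T'] [Algebra C T'] (ι : T' →ₐ[C] T) (hinj : Function.Injective ι) :
    Function.Injective (Algebra.TensorProduct.map (AlgHom.id S S) ι) := by
  have h := Module.Flat.lTensor_preserves_injective_linearMap (M := S) ι.toLinearMap hinj
  intro a b hab
  apply h
  rw [lTensor_eq_map, lTensor_eq_map, hab]

end Act

end Groth.Agent.H68.IE
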