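import Mathlib

/-!
# Base change `S ⊗[C] X → S ⊗[C] Y` of a map of `C`-algebras `X → Y`
-/

set_option autoImplicit false
universe u

open TensorProduct

namespace Groth.Agent.H68.IE

namespace BC

variable (C S X Y : Type u) [CommRing C] [CommRing S] [CommRing X] [CommRing Y]
  [Algebra C S] [Algebra C X] [Algebra C Y] [Algebra X Y] [IsScalarTower C X Y]

/-- the base change of `X → Y` -/
noncomputable def mapHom : S ⊗[C] X →ₐ[S] S ⊗[C] Y :=
  Algebra.TensorProduct.map (AlgHom.id S S) (IsScalarTower.toAlgHom C X Y)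

@[simp] lemma mapHom_tmul (s : S) (x : X) :
    mapHom C S X Y (s ⊗ₜ x) = s ⊗ₜ algebraMap X Y x := rfl

/-- the algebra structure given by `mapHom` -/
noncomputable abbrev alg : Algebra (S ⊗[C] X) (S ⊗[C] Y) := (mapHom C S X Y).toRingHom.toAlgebra

section

attribute [local instance] Algebra.TensorProduct.rightAlgebra

/-- `X → S ⊗ Y` -/
noncomputable abbrev algX : Algebra X (S ⊗[C] Y) :=
  ((algebraMap Y (S ⊗[C] Y)).comp (algebraMap X Y)).toAlgebra

theorem tower_X_Y :
    letI := algX C S X Y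
    IsScalarTower X Y (S ⊗[C] Y) :=
  letI := algX C S X Y
  IsScalarTower.of_algebraMap_eq fun x => rfl

theorem tower_X_SX :
    letI := alg C S X Y
    letI := algX C S X Y
    IsScalarTower X (S ⊗[C] X) (S ⊗[C] Y) :=
  letI := alg C S X Y
  letI := algX C S X Y
  IsScalarTower.of_algebraMap_eq fun x => rfl

theorem tower_S :
    letI := alg C S X Y
    IsScalarTower S (S ⊗[C] X) (S ⊗[C] Y) :=
  letI := alg C S X Y
  IsScalarTower.of_algebraMap_eq fun s => by
    change s ⊗ₜ[C] (1 : Y) = mapHom C S X Y (s ⊗ₜ[C] (1 : X))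
    rw [mapHom_tmul, map_one]

theorem isPushout :
    letI := alg C S X Y
    letI := algX C S X Y
    haveI := tower_X_Y C S X Y
    haveI := tower_X_SX C S X Y
    Algebra.IsPushout X Y (S ⊗[C] X) (S ⊗[C] Y) := by
  letI := alg C S X Y
  letI := algX C S X Y
  haveI t1 := tower_X_Y C S X Y
  haveI t2 := tower_X_SX C S X Y
  haveI t3 := tower_S C S X Y
  haveI t4 : IsScalarTower C (S ⊗[C] X) (S ⊗[C] Y) := IsScalarTower.of_algebraMap_eq fun c => by
    rw [IsScalarTower.algebraMap_apply C S (S ⊗[C] Y), IsScalarTower.algebraMap_apply C S (S ⊗[C] X),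
      ← IsScalarTower.algebraMap_apply S (S ⊗[C] X) (S ⊗[C] Y)]
  exact (Algebra.IsPushout.comp_iff C X S (S ⊗[C] X) (T := Y) (T' := S ⊗[C] Y)).mp inferInstance

theorem etale [Algebra.Etale X Y] :
    letI := alg C S X Y
    Algebra.Etale (S ⊗[C] X) (S ⊗[C] Y) := by
  letI := alg C S X Y
  letI := algX C S X Y
  haveI t1 := tower_X_Y C S X Y
  haveI t2 := tower_X_SX C S X Y
  haveI := isPushout C S X Y
  rw [← RingHom.etale_algebraMap]
  exact RingHom.Etale.isStableUnderBaseChange X Y (S ⊗[C] X) (S ⊗[C] Y)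
    (RingHom.etale_algebraMap.mpr inferInstance)

theorem isLocalization_away (f : X) [IsLocalization.Away f Y] :
    letI := alg C S X Y
    IsLocalization.Away ((1 : S) ⊗ₜ[C] f) (S ⊗[C] Y) := by
  letI := alg C S X Y
  letI := algX C S X Y
  haveI t1 := tower_X_Y C S X Y
  haveI t2 := tower_X_SX C S X Y
  haveI := (isPushout C S X Y).symm
  have h := (Algebra.isLocalization_iff_isPushout (Submonoid.powers f) Y
    (T := S ⊗[C] X) (B := S ⊗[C] Y)).mpr inferInstance
  have e : Algebra.algebraMapSubmonoid (S ⊗[C] X) (Submonoid.powers f) =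
      Submonoid.powers ((1 : S) ⊗ₜ[C] f) := by
    rw [Algebra.algebraMapSubmonoid, Submonoid.map_powers]
    rfl
  rw [e] at h
  exact h

end

end BC

end Groth.Agent.H68.IE
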