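import Mathlib
import Groth.Agent.H50.EtSrcLocal
import Groth.Agent.H51.EtSourceRing3

/-!
# Cancelling an étale map on the source, at a point
-/

set_option autoImplicit false
universe u

namespace Groth.Agent.H68.IE

/-- If `T` is étale at `P` over both `R₀` and `S₀` (with `R₀ → S₀ → T`), then `S₀` is étale over
`R₀` at `P ∩ S₀`. -/
theorem isEtaleAt_comap_of_isEtaleAt (R₀ S₀ T : Type u) [CommRing R₀] [CommRing S₀] [CommRing T]
    [Algebra R₀ S₀] [Algebra S₀ T] [Algebra R₀ T] [IsScalarTower R₀ S₀ T]
    [Algebra.FinitePresentation R₀ S₀] [Algebra.FinitePresentation S₀ T]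
    [Algebra.FinitePresentation R₀ T]
    (P : Ideal T) [P.IsPrime] [Algebra.IsEtaleAt S₀ P] [Algebra.IsEtaleAt R₀ P] :
    Algebra.IsEtaleAt R₀ (P.comap (algebraMap S₀ T)) := by
  obtain ⟨t₁, ht₁, het₁⟩ := Algebra.exists_etale_of_isEtaleAt (R := S₀) P
  obtain ⟨t₂, ht₂, het₂⟩ := Algebra.exists_etale_of_isEtaleAt (R := R₀) P
  set t := t₁ * t₂ with ht
  have htP : t ∉ P := fun h => (Ideal.IsPrime.mem_or_mem inferInstance h).elim ht₁ ht₂
  have hsub₁ : (PrimeSpectrum.basicOpen t : Set (PrimeSpectrum T)) ⊆
      PrimeSpectrum.basicOpen t₁ := by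
    rw [ht, PrimeSpectrum.basicOpen_mul]
    exact Set.inter_subset_left
  have hsub₂ : (PrimeSpectrum.basicOpen t : Set (PrimeSpectrum T)) ⊆
      PrimeSpectrum.basicOpen t₂ := by
    rw [ht, PrimeSpectrum.basicOpen_mul]
    exact Set.inter_subset_right
  have hetS : Algebra.Etale S₀ (Localization.Away t) :=
    Algebra.basicOpen_subset_etaleLocus_iff_etale.mp
      (hsub₁.trans (Algebra.basicOpen_subset_etaleLocus_iff_etale.mpr het₁))
  have hetR : Algebra.Etale R₀ (Localization.Away t) :=
    Algebra.basicOpen_subset_etaleLocus_iff_etale.mp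
      (hsub₂.trans (Algebra.basicOpen_subset_etaleLocus_iff_etale.mpr het₂))
  -- the prime of `T[1/t]` above `P`
  have hdisj : Disjoint (Submonoid.powers t : Set T) (P : Set T) := by
    rw [Set.disjoint_left]
    rintro _ ⟨n, rfl⟩ hx
    exact htP (Ideal.IsPrime.mem_of_pow_mem inferInstance n hx)
  have hP'prime : (P.map (algebraMap T (Localization.Away t))).IsPrime :=
    IsLocalization.isPrime_of_isPrime_disjoint (Submonoid.powers t) _ P inferInstance hdisj
  have hP'comap : (P.map (algebraMap T (Localization.Away t))).comap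
      (algebraMap T (Localization.Away t)) = P :=
    IsLocalization.comap_map_of_isPrime_disjoint (Submonoid.powers t) _ inferInstance hdisj
  let p : PrimeSpectrum (Localization.Away t) := ⟨_, hP'prime⟩
  have hψ : (algebraMap S₀ (Localization.Away t)).Etale := RingHom.etale_algebraMap.mpr hetS
  have hQA : ((algebraMap S₀ (Localization.Away t)).comp (algebraMap R₀ S₀)).Etale := by
    rw [← IsScalarTower.algebraMap_eq]
    exact RingHom.etale_algebraMap.mpr hetR
  obtain ⟨s, hs, hQs⟩ := Groth.Agent.H50.descends_local RingHom.Etale.propertyIsLocal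
    Groth.Agent.H51.descendsStdEtale_etale (algebraMap R₀ S₀)
    (algebraMap S₀ (Localization.Away t)) hψ p hQA
  rw [← IsScalarTower.algebraMap_eq] at hQs
  have hets : Algebra.Etale R₀ (Localization.Away s) := RingHom.etale_algebraMap.mp hQs
  have hs' : s ∉ P.comap (algebraMap S₀ T) := by
    intro h
    apply hs
    show s ∈ (P.map (algebraMap T (Localization.Away t))).comap
      (algebraMap S₀ (Localization.Away t))
    rw [IsScalarTower.algebraMap_eq S₀ T (Localization.Away t), ← Ideal.comap_comap, hP'comap]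
    exact h
  have hsub := Algebra.basicOpen_subset_etaleLocus_iff_etale.mpr hets
  exact hsub (show (⟨P.comap (algebraMap S₀ T), inferInstance⟩ : PrimeSpectrum S₀) ∈
    (PrimeSpectrum.basicOpen s : Set (PrimeSpectrum S₀)) from hs')

end Groth.Agent.H68.IE
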