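import Mathlib

/-!
# Algebraic extensions of separably closed fields
-/

set_option autoImplicit false

namespace Groth.Agent.H68.IE

theorem isPurelyInseparable_of_isSepClosed (k K : Type*) [Field k] [Field K] [Algebra k K]
    [IsSepClosed k] [Algebra.IsAlgebraic k K] : IsPurelyInseparable k K := by
  rw [← separableClosure.eq_bot_iff]
  exact IntermediateField.eq_bot_of_isSepClosed_of_isSeparable _

theorem isSepClosed_of_isAlgebraic (k K : Type*) [Field k] [Field K] [Algebra k K]
    [IsSepClosed k] [Algebra.IsAlgebraic k K] : IsSepClosed K := by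
  refine IsSepClosed.of_exists_root _ fun p hpm hpi hps => ?_
  let E := AlgebraicClosure K
  haveI : Algebra.IsAlgebraic k E := Algebra.IsAlgebraic.trans k K E
  haveI : IsPurelyInseparable k E := isPurelyInseparable_of_isSepClosed k E
  haveI : IsPurelyInseparable K E := IsPurelyInseparable.tower_top k K E
  obtain ⟨α, hα⟩ := IsAlgClosed.exists_aeval_eq_zero E p (Polynomial.degree_pos_of_irreducible hpi).ne'
  have hsep : IsSeparable K α := hps.of_dvd (minpoly.dvd K α hα)
  obtain ⟨x, hx⟩ := IsPurelyInseparable.inseparable K α hsep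
  refine ⟨x, ?_⟩
  apply (algebraMap K E).injective
  rw [map_zero, ← hα, ← hx, Polynomial.aeval_algebraMap_apply, Polynomial.coe_aeval_eq_eval]

end Groth.Agent.H68.IE
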