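import Groth.Agent.H68.InvEt.Local
import Groth.Agent.H68.InvEt.Field
import Groth.Agent.H3.HensIntegralLocal
import Groth.Agent.H3.UnramifiedSplit

/-!
# Core lemma: invariants of a totally inertial étale point over a strictly henselian base
-/

set_option autoImplicit false
universe u

namespace Groth.Agent.H68.IE

open IsLocalRing

theorem isSepClosed_residueField_of_isIntegral (S B₁ : Type*) [CommRing S] [IsLocalRing S]
    [IsSepClosed (ResidueField S)] [CommRing B₁] [IsLocalRing B₁] [Algebra S B₁]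
    [Algebra.IsIntegral S B₁] : IsSepClosed (ResidueField B₁) := by
  haveI : IsLocalHom (algebraMap S B₁) := Groth.Agent.H3.isLocalHom_of_isIntegral S B₁
  haveI : Algebra.IsIntegral (ResidueField S) (ResidueField B₁) :=
    inferInstanceAs (Algebra.IsIntegral (S ⧸ maximalIdeal S) (B₁ ⧸ maximalIdeal B₁))
  exact isSepClosed_of_isAlgebraic (ResidueField S) (ResidueField B₁)

theorem core (S : Type u) [CommRing S] [IsLocalRing S]
    (B₁ : Type u) [CommRing B₁] [IsLocalRing B₁] [Algebra S B₁] [Algebra.IsIntegral S B₁]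
    (A₁ : Type u) [CommRing A₁] [Algebra B₁ A₁]
    (A₁' : Type u) [CommRing A₁'] [Algebra A₁' A₁] [Algebra S A₁'] [Algebra S A₁]
    [IsScalarTower S B₁ A₁] [IsScalarTower S A₁' A₁]
    (G : Type*) [Group G] [Finite G] [MulSemiringAction G B₁] [MulSemiringAction G A₁]
    (hSB : Function.Injective (algebraMap S B₁))
    (hBinv : ∀ b : B₁, (∀ g : G, g • b = b) → b ∈ Set.range (algebraMap S B₁))
    (hequiv : ∀ (g : G) (b : B₁), algebraMap B₁ A₁ (g • b) = g • algebraMap B₁ A₁ b)
    (hA'inj : Function.Injective (algebraMap A₁' A₁))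
    (hA'fix : ∀ (g : G) (a' : A₁'), g • algebraMap A₁' A₁ a' = algebraMap A₁' A₁ a')
    (hAinv : ∀ a : A₁, (∀ g : G, g • a = a) → a ∈ Set.range (algebraMap A₁' A₁))
    (x₁ : Ideal A₁) [x₁.IsPrime]
    (hin : ∀ (g : G) (a : A₁), g • a - a ∈ x₁)
    (hbij : Function.Bijective (algebraMap B₁ (Localization.AtPrime x₁))) :
    Function.Bijective (algebraMap S (Localization.AtPrime (x₁.comap (algebraMap A₁' A₁)))) := by
  classical
  haveI := Fintype.ofFinite G
  set p₁ := x₁.comap (algebraMap A₁' A₁) with hp₁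
  haveI : IsLocalHom (algebraMap S B₁) := Groth.Agent.H3.isLocalHom_of_isIntegral S B₁
  set Λ := Localization.AtPrime x₁ with hΛ
  have hι : ∀ b : B₁, algebraMap B₁ Λ b = algebraMap A₁ Λ (algebraMap B₁ A₁ b) := fun b =>
    IsScalarTower.algebraMap_apply B₁ A₁ Λ b
  have hgx : ∀ (g : G) (u : A₁), u ∉ x₁ → g • u ∉ x₁ := by
    intro g u hu h
    apply hu
    have := x₁.sub_mem h (hin g u)
    simpa using this
  -- the norm of an element outside `x₁` is an invariant outside `x₁` divisible by it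
  have hnorm : ∀ u : A₁, u ∉ x₁ → ∃ n' : A₁', n' ∉ p₁ ∧ ∃ c : A₁, algebraMap A₁' A₁ n' = c * u := by
    intro u hu
    have hinv : ∀ h : G, h • (∏ g : G, g • u) = ∏ g : G, g • u := by
      intro h
      rw [Finset.smul_prod']
      simp_rw [smul_smul]
      exact Fintype.prod_equiv (Equiv.mulLeft h) _ _ (fun g => rfl)
    obtain ⟨n', hn'⟩ := hAinv _ hinv
    refine ⟨n', ?_, ∏ g ∈ Finset.univ.erase (1 : G), g • u, ?_⟩
    · rw [hp₁, Ideal.mem_comap, hn']
      intro hmem
      obtain ⟨g, -, hg⟩ := (Ideal.IsPrime.prod_mem_iff (p := x₁)).mp hmem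
      exact hgx g u hu hg
    · rw [hn', ← Finset.mul_prod_erase Finset.univ (fun g : G => g • u) (Finset.mem_univ 1),
        one_smul, mul_comm]
  have hker : ∀ a' : A₁', algebraMap A₁ Λ (algebraMap A₁' A₁ a') = 0 →
      algebraMap A₁' (Localization.AtPrime p₁) a' = 0 := by
    intro a' h0
    rw [IsLocalization.map_eq_zero_iff x₁.primeCompl] at h0
    obtain ⟨u, hu⟩ := h0
    obtain ⟨n', hn'p, c, hc⟩ := hnorm u u.2
    rw [IsLocalization.map_eq_zero_iff p₁.primeCompl]
    refine ⟨⟨n', hn'p⟩, hA'inj ?_⟩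
    rw [map_mul, map_zero, hc, mul_assoc, hu, mul_zero]
  have hinvB : ∀ (a' : A₁') (b : B₁),
      algebraMap B₁ Λ b = algebraMap A₁ Λ (algebraMap A₁' A₁ a') →
      b ∈ Set.range (algebraMap S B₁) := by
    intro a' b hb
    apply hBinv
    intro g
    apply hbij.1
    rw [hι, hι, hequiv]
    rw [hι, IsLocalization.eq_iff_exists x₁.primeCompl] at hb
    obtain ⟨u, hu⟩ := hb
    have h1 : algebraMap A₁ Λ (g • algebraMap B₁ A₁ b) =
        algebraMap A₁ Λ (algebraMap A₁' A₁ a') := by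
      rw [IsLocalization.eq_iff_exists x₁.primeCompl]
      refine ⟨⟨g • (u : A₁), hgx g u u.2⟩, ?_⟩
      have := congrArg (fun z => g • z) hu
      simp only [smul_mul', hA'fix] at this
      exact this
    rw [h1, IsLocalization.eq_iff_exists x₁.primeCompl]
    exact ⟨u, hu.symm⟩
  have hSA : ∀ s : S, algebraMap A₁' A₁ (algebraMap S A₁' s) =
      algebraMap B₁ A₁ (algebraMap S B₁ s) := by
    intro s
    rw [← IsScalarTower.algebraMap_apply, ← IsScalarTower.algebraMap_apply]
  have hunitΛ : ∀ a' : A₁', a' ∉ p₁ → IsUnit (algebraMap A₁ Λ (algebraMap A₁' A₁ a')) := by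
    intro a' ha'
    exact IsLocalization.map_units Λ (⟨algebraMap A₁' A₁ a', ha'⟩ : x₁.primeCompl)
  constructor
  · rw [injective_iff_map_eq_zero]
    intro s hs
    rw [IsScalarTower.algebraMap_apply S A₁' (Localization.AtPrime p₁),
      IsLocalization.map_eq_zero_iff p₁.primeCompl] at hs
    obtain ⟨w, hw⟩ := hs
    have h1 := congrArg (fun z => algebraMap A₁ Λ (algebraMap A₁' A₁ z)) hw
    simp only [map_mul, map_zero] at h1
    have h2 := ((hunitΛ w w.2).mul_right_eq_zero).mp h1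
    rw [hSA, ← hι] at h2
    have h3 := hbij.1 (h2.trans (map_zero _).symm)
    exact hSB (h3.trans (map_zero _).symm)
  · intro y
    obtain ⟨a', s', rfl⟩ := IsLocalization.exists_mk'_eq p₁.primeCompl y
    obtain ⟨b, hb⟩ := hbij.2 (algebraMap A₁ Λ (algebraMap A₁' A₁ a'))
    obtain ⟨c, hc⟩ := hbij.2 (algebraMap A₁ Λ (algebraMap A₁' A₁ (s' : A₁')))
    obtain ⟨sb, rfl⟩ := hinvB a' b hb
    obtain ⟨sc, rfl⟩ := hinvB s' c hc
    have hcu : IsUnit (algebraMap S B₁ sc) := by
      have h1 : IsUnit (algebraMap B₁ Λ (algebraMap S B₁ sc)) := by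
        rw [hc]; exact hunitΛ s' s'.2
      exact (isUnit_map_iff (RingEquiv.ofBijective (algebraMap B₁ Λ) hbij) _).mp h1
    have hscu : IsUnit sc := isUnit_of_map_unit (algebraMap S B₁) sc hcu
    obtain ⟨v, rfl⟩ := hscu
    refine ⟨sb * ↑v⁻¹, ?_⟩
    rw [IsLocalization.eq_mk'_iff_mul_eq, IsScalarTower.algebraMap_apply S A₁' (Localization.AtPrime p₁),
      ← map_mul, ← sub_eq_zero, ← map_sub]
    apply hker
    rw [map_sub, map_sub, map_mul, map_mul, hSA, ← hι, ← hb, ← hc, ← map_mul, ← map_mul, ← map_sub,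
      ← map_sub, mul_assoc, Units.inv_mul, mul_one, sub_self, map_zero, map_zero]

end Groth.Agent.H68.IE
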