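import Mathlib
import Groth.Agent.H25.UnramDescent
import Groth.Agent.H20.EtaleAtFlat
import Groth.Agent.H50.EtSrcEasy

/-!
# Descending étaleness at a point along a flat base change with trivial local ring
-/

set_option autoImplicit false
universe u

open TensorProduct IsLocalRing

namespace Groth.Agent.H68.IE

attribute [local instance] Algebra.TensorProduct.rightAlgebra

/-- If `S` is flat over `C`, `p₁` is a prime of `S ⊗[C] A'` above the prime `p` of `A'` and the
local ring of `S ⊗[C] A'` at `p₁` is just `S`, then `A'` is étale over `C` at `p`. -/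
theorem isEtaleAt_of_bijective_tensor (C S A' : Type u) [CommRing C] [CommRing S] [CommRing A']
    [Algebra C S] [Algebra C A'] [Module.Flat C S] [Algebra.FinitePresentation C A']
    (p : Ideal A') [p.IsPrime] (p₁ : Ideal (S ⊗[C] A')) [p₁.IsPrime]
    (hp : ∀ a' : A', (1 : S) ⊗ₜ[C] a' ∈ p₁ ↔ a' ∈ p)
    (hbij : Function.Bijective (algebraMap S (Localization.AtPrime p₁))) :
    Algebra.IsEtaleAt C p := by
  have hover : p₁.LiesOver p := by
    refine ⟨?_⟩
    ext a'
    rw [Ideal.mem_comap]
    exact (hp a').symm
  -- étale at `p₁` over `S`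
  let e : S ≃ₐ[S] Localization.AtPrime p₁ := AlgEquiv.ofBijective (Algebra.ofId S _) hbij
  have hfe : Algebra.FormallyEtale S (Localization.AtPrime p₁) := Algebra.FormallyEtale.of_equiv e
  have hur1 : Algebra.IsUnramifiedAt S p₁ := by
    show Algebra.FormallyUnramified S (Localization.AtPrime p₁)
    infer_instance
  -- unramified at `p`
  have hpush : Algebra.IsPushout C S A' (S ⊗[C] A') := TensorProduct.isPushout
  have hur0 : Algebra.IsUnramifiedAt C (p₁.under A') :=
    Groth.Agent.H25.UnramDescent.isUnramifiedAt_of_isPushout C A' S (S ⊗[C] A') p₁ hur1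
  have hunder : p₁.under A' = p := hover.over.symm
  have hur : Algebra.IsUnramifiedAt C p :=
    Groth.Agent.H25.UnramDescent.isUnramifiedAt_congr C A' _ _ hunder hur0
  -- flatness
  let _ := Localization.AtPrime.algebraOfLiesOver p p₁
  have hflat : Module.Flat A' (S ⊗[C] A') := by
    have hp' : Algebra.IsPushout C A' S (S ⊗[C] A') := Algebra.IsPushout.symm hpush
    exact Module.Flat.isBaseChange C A' S (S ⊗[C] A') hp'.out
  have : Module.Flat (Localization.AtPrime p) (Localization.AtPrime p₁) := inferInstance
  have : IsLocalHom (algebraMap (Localization.AtPrime p) (Localization.AtPrime p₁)) :=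
    inferInstance
  have : Module.FaithfullyFlat (Localization.AtPrime p) (Localization.AtPrime p₁) :=
    Module.FaithfullyFlat.of_flat_of_isLocalHom
  have hfl1 : Module.Flat S (Localization.AtPrime p₁) :=
    Module.Flat.of_linearEquiv e.toLinearEquiv.symm
  have hfl2 : Module.Flat C (Localization.AtPrime p₁) := Module.Flat.trans C S _
  have hfl3 : Module.Flat C (Localization.AtPrime p) :=
    Groth.Agent.H50.flat_of_faithfullyFlat_comp (R := C) (B := Localization.AtPrime p)
      (A := Localization.AtPrime p₁)
  exact Groth.Agent.H20.isEtaleAt_of_flat_of_isUnramifiedAt p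

end Groth.Agent.H68.IE
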