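import Mathlib
import Groth.Agent.H1.InvEtale
import Groth.Agent.H1.InvEtale2

/-!
# Invariants of a subgroup as a subalgebra over the invariants of the whole group
-/

set_option autoImplicit false
universe u

namespace Groth.Agent.H68.IE

section fixedSub

variable (C₀ R : Type*) [CommRing C₀] [CommRing R] [Algebra C₀ R] {G : Type*} [Group G]
  [MulSemiringAction G R]

/-- The invariants of a subgroup `H`, as a subalgebra over a ring `C₀` mapping to the invariants
of the whole group. -/
def fixedSub (H : Subgroup G)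
    (hfix : ∀ (g : G) (c : C₀), g • algebraMap C₀ R c = algebraMap C₀ R c) : Subalgebra C₀ R where
  carrier := {r | ∀ h ∈ H, h • r = r}
  mul_mem' := fun {a b} ha hb h hh => by rw [smul_mul', ha h hh, hb h hh]
  one_mem' := fun h _ => smul_one h
  add_mem' := fun {a b} ha hb h hh => by rw [smul_add, ha h hh, hb h hh]
  zero_mem' := fun h _ => smul_zero h
  algebraMap_mem' := fun c h _ => hfix h c

variable {C₀ R}

theorem mem_fixedSub {H : Subgroup G}
    {hfix : ∀ (g : G) (c : C₀), g • algebraMap C₀ R c = algebraMap C₀ R c} {r : R} :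
    r ∈ fixedSub C₀ R H hfix ↔ ∀ h ∈ H, h • r = r := Iff.rfl

theorem finite_fixedSub [IsNoetherianRing C₀] [Module.Finite C₀ R] (H : Subgroup G)
    (hfix : ∀ (g : G) (c : C₀), g • algebraMap C₀ R c = algebraMap C₀ R c) :
    Module.Finite C₀ (fixedSub C₀ R H hfix) := by
  have : IsNoetherian C₀ R := isNoetherian_of_isNoetherianRing_of_finite C₀ R
  have h : Module.Finite C₀ ↥(Subalgebra.toSubmodule (fixedSub C₀ R H hfix)) :=
    Module.Finite.iff_fg.mpr (IsNoetherian.noetherian _)
  exact h

end fixedSub

section etale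

variable (C₀ : Type*) (R : Type u) [CommRing C₀] [CommRing R] [Algebra C₀ R] {G : Type*} [Group G]
  [Finite G] [MulSemiringAction G R]

/-- helper1's theorem in the present language: the invariants of the inertia group of a prime `x`
are étale over the invariants of the whole group at the contraction of `x`. -/
theorem isEtaleAt_fixedSub
    (hinj : Function.Injective (algebraMap C₀ R))
    (hfix : ∀ (g : G) (c : C₀), g • algebraMap C₀ R c = algebraMap C₀ R c)
    (hinv : ∀ r : R, (∀ g : G, g • r = r) → r ∈ Set.range (algebraMap C₀ R))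
    (x : Ideal R) [x.IsPrime] (I : Subgroup G) (hI : x.inertia G = I) :
    Algebra.IsEtaleAt C₀ (x.comap (algebraMap (fixedSub C₀ R I hfix) R)) := by
  subst hI
  obtain ⟨θ, hθinv, hθ⟩ :=
    Groth.Agent.H1.InvEt.exists_invariant_sub_notMem_of_notMem_inertia (G := G) x
  obtain ⟨g₀, hg₀, het⟩ := Groth.Agent.H1.InvEt.exists_away_isStandardEtale_of_notMem
    (A := C₀) (B' := fixedSub C₀ R (x.inertia G) hfix) (R := R) (G := G)
    hinj hinv (fun a g => hfix g a) (x.inertia G) Subtype.val_injective
    (fun b h hh => b.2 h hh)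
    (⟨θ, fun τ hτ => hθinv τ hτ⟩ : fixedSub C₀ R (x.inertia G) hfix) x
    (fun σ hσ => hθ σ hσ)
  have hfe : Algebra.FormallyEtale C₀ (Localization.Away g₀) := inferInstance
  have hsub := Algebra.basicOpen_subset_etaleLocus_iff.mpr hfe
  exact hsub (show (⟨x.comap (algebraMap (fixedSub C₀ R (x.inertia G) hfix) R), inferInstance⟩ :
    PrimeSpectrum (fixedSub C₀ R (x.inertia G) hfix)) ∈
      (PrimeSpectrum.basicOpen g₀ : Set (PrimeSpectrum _)) from hg₀)

end etale

end Groth.Agent.H68.IE
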