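import Groth.Agent.H68.InvEt.TotInertMain
import Groth.Agent.H68.InvEt.Cancel
import Groth.Agent.H68.InvEt.FixedSub

/-!
# Equivariant étale maps with equal inertia induce étale maps on invariants (pointwise)
-/

set_option autoImplicit false
universe u

namespace Groth.Agent.H68.IE

section general

variable (BG AG B A : Type u) [CommRing BG] [CommRing AG] [CommRing B] [CommRing A]
  [Algebra BG B] [Algebra BG AG] [Algebra BG A] [Algebra B A] [Algebra AG A]
  [IsScalarTower BG B A] [IsScalarTower BG AG A]
  (G : Type*) [Group G] [Finite G] [MulSemiringAction G B] [MulSemiringAction G A]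

/-- `AG` is of finite type over `BG` (Artin–Tate). -/
theorem finiteType_invariants [IsNoetherianRing BG] [Algebra.FiniteType BG A]
    (hAinj : Function.Injective (algebraMap AG A))
    (hAinv : ∀ a : A, (∀ g : G, g • a = a) → a ∈ Set.range (algebraMap AG A)) :
    Algebra.FiniteType BG AG := by
  have : Algebra.IsInvariant AG A G := ⟨fun a ha => hAinv a ha⟩
  have : Algebra.IsIntegral AG A := Algebra.IsInvariant.isIntegral AG A G
  have : Algebra.FiniteType AG A := Algebra.FiniteType.of_restrictScalars_finiteType BG AG A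
  have hfin : Module.Finite AG A := Algebra.IsIntegral.finite
  exact ⟨fg_of_fg_of_fg BG AG A (Algebra.FiniteType.out) hfin.1 hAinj⟩

omit [Algebra BG B] [Algebra BG A] [Algebra B A] [IsScalarTower BG B A] [IsScalarTower BG AG A]
  [Algebra AG A] in
theorem isEtaleAt_congr (q q' : Ideal AG) [q.IsPrime] [q'.IsPrime] (e : q = q')
    (h : Algebra.IsEtaleAt BG q) : Algebra.IsEtaleAt BG q' := by
  subst e
  exact h

/-- **General case.** -/
theorem isEtaleAt_invariants [IsNoetherianRing BG] [Algebra.FiniteType BG B]
    [Algebra.FiniteType BG A]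
    (hBinj : Function.Injective (algebraMap BG B))
    (hBfix : ∀ (g : G) (c : BG), g • algebraMap BG B c = algebraMap BG B c)
    (hBinv : ∀ b : B, (∀ g : G, g • b = b) → b ∈ Set.range (algebraMap BG B))
    (hAinj : Function.Injective (algebraMap AG A))
    (hAfix : ∀ (g : G) (c : AG), g • algebraMap AG A c = algebraMap AG A c)
    (hAinv : ∀ a : A, (∀ g : G, g • a = a) → a ∈ Set.range (algebraMap AG A))
    (hequiv : ∀ (g : G) (b : B), algebraMap B A (g • b) = g • algebraMap B A b)
    (x : Ideal A) [x.IsPrime] [Algebra.IsEtaleAt B x]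
    (hin : x.inertia G = (x.comap (algebraMap B A)).inertia G) :
    Algebra.IsEtaleAt BG (x.comap (algebraMap AG A)) := by
  set I : Subgroup G := x.inertia G with hI
  set y : Ideal B := x.comap (algebraMap B A) with hy
  let BI : Subalgebra BG B := fixedSub BG B I hBfix
  let AI : Subalgebra AG A := fixedSub AG A I hAfix
  -- finiteness
  have hinvB : Algebra.IsInvariant BG B G := ⟨fun b hb => hBinv b hb⟩
  have hintB : Algebra.IsIntegral BG B := Algebra.IsInvariant.isIntegral BG B G
  have hfinB : Module.Finite BG B := Algebra.IsIntegral.finite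
  have hnoeB : IsNoetherianRing B := Algebra.FiniteType.isNoetherianRing BG B
  have hftBA : Algebra.FiniteType B A := Algebra.FiniteType.of_restrictScalars_finiteType BG B A
  have hfpBA : Algebra.FinitePresentation B A := Algebra.FinitePresentation.of_finiteType.mp hftBA
  have hftAG : Algebra.FiniteType BG AG := finiteType_invariants BG AG A G hAinj hAinv
  have hnoeAG : IsNoetherianRing AG := Algebra.FiniteType.isNoetherianRing BG AG
  have hfpAG : Algebra.FinitePresentation BG AG :=
    Algebra.FinitePresentation.of_finiteType.mp hftAG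
  have hinvA : Algebra.IsInvariant AG A G := ⟨fun a ha => hAinv a ha⟩
  have hintA : Algebra.IsIntegral AG A := Algebra.IsInvariant.isIntegral AG A G
  have hftAGA : Algebra.FiniteType AG A := Algebra.FiniteType.of_restrictScalars_finiteType BG AG A
  have hfinA : Module.Finite AG A := Algebra.IsIntegral.finite
  have hfinAI : Module.Finite AG AI := finite_fixedSub I hAfix
  have hfinBI : Module.Finite BG BI := finite_fixedSub I hBfix
  have hnoeBI : IsNoetherianRing BI := IsNoetherianRing.of_finite BG BI
  have hfpAI : Algebra.FinitePresentation AG AI :=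
    Algebra.FinitePresentation.of_finiteType.mp inferInstance
  have hfpBGAI : Algebra.FinitePresentation BG AI := Algebra.FinitePresentation.trans BG AG AI
  -- the algebra `BI → AI`
  let φ : BI →+* AI := RingHom.codRestrict
    ((algebraMap B A).comp (BI.val : BI →ₐ[BG] B).toRingHom) AI
    (fun b h hh => by
      show h • algebraMap B A b.1 = algebraMap B A b.1
      rw [← hequiv, b.2 h hh])
  letI : Algebra BI AI := φ.toAlgebra
  have htBIAIA : IsScalarTower BI AI A := IsScalarTower.of_algebraMap_eq (fun b => rfl)
  have htBGBIAI : IsScalarTower BG BI AI := IsScalarTower.of_algebraMap_eq (fun c =>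
    Subtype.ext (IsScalarTower.algebraMap_apply BG B A c))
  have hftBIAI : Algebra.FiniteType BI AI :=
    Algebra.FiniteType.of_restrictScalars_finiteType BG BI AI
  have hfpBIAI : Algebra.FinitePresentation BI AI :=
    Algebra.FinitePresentation.of_finiteType.mp hftBIAI
  -- the actions of `I`
  letI : SMulCommClass I BI B := ⟨fun g c b => by
    rw [Algebra.smul_def, Algebra.smul_def]
    show g.1 • (c.1 * b) = c.1 * (g.1 • b)
    rw [smul_mul', c.2 g.1 g.2]⟩
  letI : SMulCommClass I BI A := ⟨fun g c a => by
    rw [Algebra.smul_def, Algebra.smul_def]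
    show g.1 • (algebraMap B A c.1 * a) = algebraMap B A c.1 * (g.1 • a)
    rw [smul_mul', ← hequiv, c.2 g.1 g.2]⟩
  have hinvBI : Algebra.IsInvariant BI B I :=
    ⟨fun b hb => ⟨⟨b, fun h hh => hb ⟨h, hh⟩⟩, rfl⟩⟩
  have hintBI : Algebra.IsIntegral BI B := Algebra.IsInvariant.isIntegral BI B I
  -- the totally inertial step
  have hTI : Algebra.IsEtaleAt BI (x.comap (algebraMap AI A)) :=
    isEtaleAt_of_totallyInertial BI B AI A I Subtype.val_injective
      (fun b hb => ⟨⟨b, fun h hh => hb ⟨h, hh⟩⟩, rfl⟩)
      (fun g b => hequiv g.1 b) Subtype.val_injective (fun g a' => a'.2 g.1 g.2)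
      (fun a ha => ⟨⟨a, fun h hh => ha ⟨h, hh⟩⟩, rfl⟩) x (fun g a => g.2 a)
  -- the two étale steps of helper1
  have hA1 : Algebra.IsEtaleAt AG (x.comap (algebraMap AI A)) :=
    isEtaleAt_fixedSub AG A hAinj hAfix hAinv x I rfl
  have hB1 : Algebra.IsEtaleAt BG (y.comap (algebraMap BI B)) :=
    isEtaleAt_fixedSub BG B hBinj hBfix hBinv y I hin.symm
  -- composition
  have hover : (x.comap (algebraMap AI A)).LiesOver (y.comap (algebraMap BI B)) := ⟨by
    ext b
    exact Iff.rfl⟩
  have hcomp : Algebra.IsEtaleAt BG (x.comap (algebraMap AI A)) :=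
    Algebra.IsEtaleAt.comp (R := BG) (A := BI) (B := AI) (y.comap (algebraMap BI B))
      (x.comap (algebraMap AI A))
  -- cancellation
  have hfin := isEtaleAt_comap_of_isEtaleAt BG AG AI (x.comap (algebraMap AI A))
  have e : (x.comap (algebraMap AI A)).comap (algebraMap AG AI) = x.comap (algebraMap AG A) := by
    rw [Ideal.comap_comap, ← IsScalarTower.algebraMap_eq]
  exact isEtaleAt_congr BG AG _ _ e hfin

end general

end Groth.Agent.H68.IE
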