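import Groth.Agent.H68.InvEt.General

/-!
# Equivariant étale maps with equal inertia induce étale maps on invariants (global form)
-/

set_option autoImplicit false
universe u

namespace Groth.Agent.H68.IE

section globalform

variable (BG AG B A : Type u) [CommRing BG] [CommRing AG] [CommRing B] [CommRing A]
  [Algebra BG B] [Algebra BG AG] [Algebra BG A] [Algebra B A] [Algebra AG A]
  [IsScalarTower BG B A] [IsScalarTower BG AG A]
  (G : Type*) [Group G] [Finite G] [MulSemiringAction G B] [MulSemiringAction G A]

/-- If the equivariant map `B → A` is étale with equal inertia groups at every maximal ideal of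
`A`, then the invariants `AG` are étale over `BG`. -/
theorem etale_invariants [IsNoetherianRing BG] [Algebra.FiniteType BG B]
    [Algebra.FiniteType BG A]
    (hBinj : Function.Injective (algebraMap BG B))
    (hBfix : ∀ (g : G) (c : BG), g • algebraMap BG B c = algebraMap BG B c)
    (hBinv : ∀ b : B, (∀ g : G, g • b = b) → b ∈ Set.range (algebraMap BG B))
    (hAinj : Function.Injective (algebraMap AG A))
    (hAfix : ∀ (g : G) (c : AG), g • algebraMap AG A c = algebraMap AG A c)
    (hAinv : ∀ a : A, (∀ g : G, g • a = a) → a ∈ Set.range (algebraMap AG A))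
    (hequiv : ∀ (g : G) (b : B), algebraMap B A (g • b) = g • algebraMap B A b)
    (h : ∀ (x : Ideal A) (_ : x.IsMaximal),
      Algebra.IsEtaleAt B x ∧ x.inertia G = (x.comap (algebraMap B A)).inertia G) :
    Algebra.Etale BG AG := by
  have hftAG : Algebra.FiniteType BG AG := finiteType_invariants BG AG A G hAinj hAinv
  have hfpAG : Algebra.FinitePresentation BG AG :=
    Algebra.FinitePresentation.of_finiteType.mp hftAG
  have hinvA : Algebra.IsInvariant AG A G := ⟨fun a ha => hAinv a ha⟩
  have hintA : Algebra.IsIntegral AG A := Algebra.IsInvariant.isIntegral AG A G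
  rw [← Algebra.etaleLocus_eq_univ_iff_etale]
  by_contra hne
  have hopen : IsOpen (Algebra.etaleLocus BG AG) := Algebra.isOpen_etaleLocus
  obtain ⟨p, hp⟩ : ∃ p, p ∉ Algebra.etaleLocus BG AG := by
    by_contra hcon
    push_neg at hcon
    exact hne (Set.eq_univ_of_forall hcon)
  obtain ⟨J, hJ⟩ := (PrimeSpectrum.isClosed_iff_zeroLocus_ideal _).mp hopen.isClosed_compl
  have hJne : J ≠ ⊤ := by
    rintro rfl
    have h1 : p ∈ (Algebra.etaleLocus BG AG)ᶜ := hp
    rw [hJ, PrimeSpectrum.zeroLocus_empty_iff_eq_top.mpr rfl] at h1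
    exact h1
  obtain ⟨m, hm, hJm⟩ := Ideal.exists_le_maximal J hJne
  have hmmem : (⟨m, hm.isPrime⟩ : PrimeSpectrum AG) ∈ (Algebra.etaleLocus BG AG)ᶜ := by
    rw [hJ]
    exact hJm
  have hker : RingHom.ker (algebraMap AG A) ≤ m := by
    rw [(RingHom.injective_iff_ker_eq_bot _).mp hAinj]
    exact bot_le
  obtain ⟨x, hxmax, hxm⟩ := Ideal.exists_ideal_over_maximal_of_isIntegral m hker
  apply hmmem
  obtain ⟨hx1, hx2⟩ := h x hxmax
  have := isEtaleAt_invariants BG AG B A G hBinj hBfix hBinv hAinj hAfix hAinv hequiv x hx2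
  have hm' : m.IsPrime := hm.isPrime
  exact isEtaleAt_congr BG AG _ m hxm this

end globalform

end Groth.Agent.H68.IE
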