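import Mathlib
import Groth.Agent.H7.StrictHenselSection
import Groth.Agent.H10.EtaleRetract

/-!
# Étale points over a strictly henselian local ring have trivial local ring

`R` henselian local with separably closed residue field, `R'` a finitely presented `R`-algebra,
`P` a prime over the maximal ideal at which `R'` is étale: then `R → R'_P` is bijective.
-/

set_option autoImplicit false
universe u

namespace Groth.Agent.H68.IE

open IsLocalRing

theorem bijective_algebraMap_atPrime_of_etale_away (R : Type u) [CommRing R]
    [HenselianLocalRing R] [IsSepClosed (ResidueField R)] (R' : Type u) [CommRing R']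
    [Algebra R R'] (P : Ideal R') [P.IsPrime]
    (hP : P.comap (algebraMap R R') = maximalIdeal R) (g : R') (hg : g ∉ P)
    (E : Type u) [CommRing E] [Algebra R' E] [Algebra R E] [IsScalarTower R R' E]
    [IsLocalization.Away g E] [Algebra.Etale R E] :
    Function.Bijective (algebraMap R (Localization.AtPrime P)) := by
  have hdisj : Disjoint (Submonoid.powers g : Set R') (P : Set R') := by
    rw [Set.disjoint_left]
    rintro x ⟨n, rfl⟩ hx
    exact hg (Ideal.IsPrime.mem_of_pow_mem inferInstance n hx)
  set PE : Ideal E := P.map (algebraMap R' E) with hPE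
  have hPEprime : PE.IsPrime :=
    IsLocalization.isPrime_of_isPrime_disjoint (Submonoid.powers g) E P inferInstance hdisj
  have hPEcomap : PE.comap (algebraMap R' E) = P :=
    IsLocalization.under_map_of_isPrime_disjoint (Submonoid.powers g) E inferInstance hdisj
  have hmemPE : ∀ a : R', algebraMap R' E a ∈ PE ↔ a ∈ P := by
    intro a
    rw [← Ideal.mem_comap, hPEcomap]
  have hPEm : PE.comap (algebraMap R E) = maximalIdeal R := by
    rw [IsScalarTower.algebraMap_eq R R' E, ← Ideal.comap_comap, hPEcomap, hP]
  obtain ⟨φ, hφ⟩ := Groth.Agent.H7.exists_algHom_comap_eq_of_isSepClosed R E PE hPEm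
  obtain ⟨e, he, hker⟩ := Groth.Agent.H10.exists_idempotent_ker_of_retraction φ
  have hφmem : ∀ z : E, φ z ∈ maximalIdeal R ↔ z ∈ PE := by
    intro z
    rw [← hφ]; rfl
  have heker : φ e = 0 := by
    have : e ∈ RingHom.ker φ.toRingHom := by rw [hker]; exact Ideal.subset_span rfl
    exact this
  have h1e : (1 - e) ∉ PE := by
    rw [← hφmem, map_sub, map_one, heker, sub_zero]
    exact fun h => (Ideal.IsPrime.ne_top inferInstance)
      ((Ideal.eq_top_iff_one _).mpr h)
  have hkill : ∀ z : E, φ z = 0 → (1 - e) * z = 0 := by
    intro z hz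
    have : z ∈ RingHom.ker φ.toRingHom := hz
    rw [hker, Ideal.mem_span_singleton'] at this
    obtain ⟨c, rfl⟩ := this
    have : (1 - e) * e = 0 := by
      have h := he.eq
      linear_combination -h
    rw [mul_comm c e, ← mul_assoc, this, zero_mul]
  constructor
  · -- injective
    rw [injective_iff_map_eq_zero]
    intro r hr
    rw [IsScalarTower.algebraMap_apply R R' (Localization.AtPrime P),
      IsLocalization.map_eq_zero_iff P.primeCompl] at hr
    obtain ⟨u, hu⟩ := hr
    have h2 : φ (algebraMap R' E u) * r = 0 := by
      have := congrArg (fun z => φ (algebraMap R' E z)) hu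
      simp only [map_mul, map_zero] at this
      rwa [← IsScalarTower.algebraMap_apply R R' E, φ.commutes, Algebra.algebraMap_self,
        RingHom.id_apply] at this
    have h3 : IsUnit (φ (algebraMap R' E u)) := by
      rw [← IsLocalRing.notMem_maximalIdeal, hφmem, hmemPE]
      exact u.2
    exact (h3.mul_right_eq_zero).mp h2
  · -- surjective
    intro y
    obtain ⟨a, s, rfl⟩ := IsLocalization.exists_mk'_eq P.primeCompl y
    have hsu : IsUnit (φ (algebraMap R' E s)) := by
      rw [← IsLocalRing.notMem_maximalIdeal, hφmem, hmemPE]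
      exact s.2
    obtain ⟨v, hv⟩ := hsu
    set r : R := φ (algebraMap R' E a) * ↑v⁻¹ with hr
    refine ⟨r, ?_⟩
    rw [IsLocalization.eq_mk'_iff_mul_eq]
    set d : R' := algebraMap R R' r * s - a with hd
    have hφd : φ (algebraMap R' E d) = 0 := by
      rw [hd, map_sub, map_mul, map_sub, map_mul, ← IsScalarTower.algebraMap_apply R R' E,
        φ.commutes, Algebra.algebraMap_self, RingHom.id_apply, hr, ← hv]
      rw [mul_assoc, Units.inv_mul, mul_one, sub_self]
    have h4 := hkill _ hφd
    obtain ⟨w, ⟨_, n, rfl⟩, hw⟩ := IsLocalization.exists_mk'_eq (Submonoid.powers g) (1 - e)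
    rw [IsLocalization.mk'_eq_iff_eq_mul] at hw
    -- `algebraMap w = (1 - e) * algebraMap (g ^ n)`
    have h5 : algebraMap R' E (w * d) = 0 := by
      rw [map_mul, hw, mul_right_comm, h4, zero_mul]
    rw [IsLocalization.map_eq_zero_iff (Submonoid.powers g)] at h5
    obtain ⟨⟨_, m, rfl⟩, hm⟩ := h5
    have hwP : w ∉ P := by
      rw [← hmemPE, hw]
      intro hmem
      rcases hPEprime.mem_or_mem hmem with h | h
      · exact h1e h
      · rw [hmemPE] at h
        exact hg (Ideal.IsPrime.mem_of_pow_mem inferInstance n h)
    have huP : g ^ m * w ∉ P := by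
      intro hmem
      rcases Ideal.IsPrime.mem_or_mem inferInstance hmem with h | h
      · exact hg (Ideal.IsPrime.mem_of_pow_mem inferInstance m h)
      · exact hwP h
    have h6 : algebraMap R' (Localization.AtPrime P) d = 0 := by
      rw [IsLocalization.map_eq_zero_iff P.primeCompl]
      exact ⟨⟨g ^ m * w, huP⟩, by simpa [mul_assoc] using hm⟩
    rw [hd, map_sub, map_mul, sub_eq_zero, ← IsScalarTower.algebraMap_apply] at h6
    exact h6

theorem bijective_algebraMap_atPrime_of_isEtaleAt (R : Type u) [CommRing R] [HenselianLocalRing R]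
    [IsSepClosed (ResidueField R)] (R' : Type u) [CommRing R'] [Algebra R R']
    [Algebra.FinitePresentation R R'] (P : Ideal R') [P.IsPrime]
    (hP : P.comap (algebraMap R R') = maximalIdeal R) [Algebra.IsEtaleAt R P] :
    Function.Bijective (algebraMap R (Localization.AtPrime P)) := by
  obtain ⟨g, hg, hEt⟩ := Algebra.exists_etale_of_isEtaleAt (R := R) P
  exact bijective_algebraMap_atPrime_of_etale_away R R' P hP g hg (Localization.Away g)

end Groth.Agent.H68.IE
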