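import Groth.Agent.H68.InvEt.Act

/-!
# `S ⊗[C] B` is local when `B` has a single totally inertial prime over the closed point
-/

set_option autoImplicit false
universe u

open TensorProduct IsLocalRing

namespace Groth.Agent.H68.IE

/-- A totally inertial prime dominates every prime with smaller contraction to the invariants. -/
theorem le_of_comap_le_of_totallyInertial {T₀ T : Type*} [CommRing T₀] [CommRing T] [Algebra T₀ T]
    (G : Type*) [Group G] [Finite G] [MulSemiringAction G T]
    (hinv : ∀ t : T, (∀ g : G, g • t = t) → t ∈ Set.range (algebraMap T₀ T))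
    (P Q : Ideal T) [P.IsPrime] (hP : ∀ (g : G) (t : T), g • t - t ∈ P)
    (h : Q.comap (algebraMap T₀ T) ≤ P.comap (algebraMap T₀ T)) : Q ≤ P := by
  classical
  haveI := Fintype.ofFinite G
  intro t ht
  obtain ⟨t₀, ht₀⟩ := hinv (∏ g : G, g • t) (Finset.smul_prod_perm t)
  have h1 : (∏ g : G, g • t) ∈ Q := by
    rw [← Finset.mul_prod_erase Finset.univ (fun g : G => g • t) (Finset.mem_univ 1), one_smul]
    exact Q.mul_mem_right _ ht
  have h2 : t₀ ∈ Q.comap (algebraMap T₀ T) := by
    rw [Ideal.mem_comap, ht₀]; exact h1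
  have h3 := h h2
  rw [Ideal.mem_comap, ht₀] at h3
  obtain ⟨g, -, hg⟩ := (Ideal.IsPrime.prod_mem_iff (p := P)).mp h3
  have := P.sub_mem hg (hP g t)
  simpa using this

section

variable (C S B : Type*) [CommRing C] [CommRing S] [CommRing B] [Algebra C S] [Algebra C B]

theorem map_ofId_eq (w : S ⊗[C] C) :
    Algebra.TensorProduct.map (AlgHom.id S S) (Algebra.ofId C B) w =
      algebraMap S (S ⊗[C] B) (Algebra.TensorProduct.rid C S S w) := by
  induction w using TensorProduct.induction_on with
  | zero => simp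
  | tmul s c =>
    rw [Algebra.TensorProduct.map_tmul, Algebra.TensorProduct.rid_tmul,
      Algebra.TensorProduct.algebraMap_apply, AlgHom.id_apply, Algebra.ofId_apply,
      Algebra.algebraMap_self, RingHom.id_apply, Algebra.algebraMap_eq_smul_one,
      ← TensorProduct.smul_tmul]
  | add x y hx hy => rw [map_add, map_add, map_add, hx, hy]

theorem injective_algebraMap_tensor [Module.Flat C S]
    (hCB : Function.Injective (algebraMap C B)) :
    Function.Injective (algebraMap S (S ⊗[C] B)) := by
  have h := Act.injective_map_of_injective C S B C (Algebra.ofId C B) hCB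
  intro a b hab
  have h1 : Algebra.TensorProduct.map (AlgHom.id S S) (Algebra.ofId C B)
        ((Algebra.TensorProduct.rid C S S).symm a) =
      Algebra.TensorProduct.map (AlgHom.id S S) (Algebra.ofId C B)
        ((Algebra.TensorProduct.rid C S S).symm b) := by
    rw [map_ofId_eq, map_ofId_eq, AlgEquiv.apply_symm_apply, AlgEquiv.apply_symm_apply, hab]
  exact (Algebra.TensorProduct.rid C S S).symm.injective (h h1)

variable (G : Type*) [Group G] [Finite G] [MulSemiringAction G B] [SMulCommClass G C B]

theorem invariant_tensor [Module.Flat C S]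
    (hBinv : ∀ b : B, (∀ g : G, g • b = b) → b ∈ Set.range (algebraMap C B))
    (z : S ⊗[C] B) (hz : ∀ g : G, Act.tensorAut C S B G g z = z) :
    z ∈ Set.range (algebraMap S (S ⊗[C] B)) := by
  obtain ⟨w, hw⟩ := Act.mem_range_of_invariant C S B G C (Algebra.ofId C B)
    (fun g c => by rw [Algebra.ofId_apply, smul_algebraMap]) hBinv z hz
  exact ⟨_, by rw [← hw, map_ofId_eq]⟩

theorem isLocalRing_tensor [IsLocalRing S] [Module.Flat C S] [Algebra.IsIntegral C B]
    (hCB : Function.Injective (algebraMap C B))
    (hBinv : ∀ b : B, (∀ g : G, g • b = b) → b ∈ Set.range (algebraMap C B))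
    (y : Ideal B) [y.IsPrime] (hy : ∀ (g : G) (b : B), g • b - b ∈ y)
    (hq : (maximalIdeal S).comap (algebraMap C S) = y.comap (algebraMap C B)) :
    IsLocalRing (S ⊗[C] B) := by
  letI := Act.action C S B G
  haveI : Nontrivial (S ⊗[C] B) :=
    (injective_algebraMap_tensor C S B hCB).nontrivial
  have hinvS : ∀ z : S ⊗[C] B, (∀ g : G, g • z = z) → z ∈ Set.range (algebraMap S (S ⊗[C] B)) :=
    fun z hz => invariant_tensor C S B G hBinv z hz
  -- every maximal ideal is totally inertial
  have key : ∀ M : Ideal (S ⊗[C] B), M.IsMaximal →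
      M.comap (algebraMap S (S ⊗[C] B)) = maximalIdeal S ∧
        ∀ (g : G) (z : S ⊗[C] B), g • z - z ∈ M := by
    intro M hM
    have hMS : M.comap (algebraMap S (S ⊗[C] B)) = maximalIdeal S :=
      IsLocalRing.eq_maximalIdeal (Ideal.isMaximal_comap_of_isIntegral_of_isMaximal M)
    refine ⟨hMS, ?_⟩
    set y' : Ideal B := M.comap (Algebra.TensorProduct.includeRight : B →ₐ[C] S ⊗[C] B) with hy'
    haveI : y'.IsPrime := Ideal.comap_isPrime _ _
    have hy'C : y'.comap (algebraMap C B) = y.comap (algebraMap C B) := by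
      rw [← hq, ← hMS]
      ext c
      simp only [Ideal.mem_comap, hy']
      rw [AlgHom.commutes, IsScalarTower.algebraMap_apply C S (S ⊗[C] B)]
    have hle : y' ≤ y := le_of_comap_le_of_totallyInertial G hBinv y y' hy hy'C.le
    have hyy' : y' = y := by
      by_contra hne
      have hlt : y' < y := lt_of_le_of_ne hle hne
      have := Ideal.IsIntegral.comap_lt_comap (R := C) hlt
      rw [hy'C] at this
      exact lt_irrefl _ this
    intro g z
    induction z using TensorProduct.induction_on with
    | zero => simp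
    | tmul s b =>
      rw [Act.smul_tmul', ← TensorProduct.tmul_sub]
      have h1 : (1 : S) ⊗ₜ[C] (g • b - b) ∈ M := by
        have : g • b - b ∈ y' := hyy' ▸ hy g b
        exact this
      have h2 : s ⊗ₜ[C] (g • b - b) = (s ⊗ₜ[C] (1 : B)) * ((1 : S) ⊗ₜ[C] (g • b - b)) := by
        rw [Algebra.TensorProduct.tmul_mul_tmul, mul_one, one_mul]
      rw [h2]
      exact M.mul_mem_left _ h1
    | add x y hx hy =>
      have : g • (x + y) - (x + y) = (g • x - x) + (g • y - y) := by
        rw [smul_add]; abel
      rw [this]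
      exact M.add_mem hx hy
  obtain ⟨M₀, hM₀⟩ := Ideal.exists_maximal (S ⊗[C] B)
  refine IsLocalRing.of_unique_max_ideal ⟨M₀, hM₀, fun M hM => ?_⟩
  obtain ⟨h1, h2⟩ := key M hM
  obtain ⟨h3, h4⟩ := key M₀ hM₀
  haveI := hM₀.isPrime
  have hle : M ≤ M₀ := le_of_comap_le_of_totallyInertial G hinvS M₀ M h4 (by rw [h1, h3])
  exact hM.eq_of_le hM₀.ne_top hle

end

end Groth.Agent.H68.IE
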