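import Groth.Agent.H68.InvEt.Core
import Groth.Agent.H68.InvEt.BC
import Groth.Agent.H68.InvEt.TensorLocal

/-!
# The totally inertial case after a strictly henselian flat base change
-/

set_option autoImplicit false
universe u

open TensorProduct IsLocalRing

namespace Groth.Agent.H68.IE

/-- A prime of `S ⊗[C] A` above a prime `x` of `A` and the closed point of `S`. -/
theorem exists_prime_tensor (C S A : Type u) [CommRing C] [CommRing S] [CommRing A]
    [Algebra C S] [Algebra C A] [IsLocalRing S] [Module.Flat C S]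
    (x : Ideal A) [x.IsPrime]
    (hqS : (x.comap (algebraMap C A)).map (algebraMap C S) = maximalIdeal S) :
    ∃ x₁ : Ideal (S ⊗[C] A), x₁.IsPrime ∧
      (∀ a : A, (1 : S) ⊗ₜ[C] a ∈ x₁ ↔ a ∈ x) ∧
      x₁.comap (algebraMap S (S ⊗[C] A)) = maximalIdeal S := by
  set q := x.comap (algebraMap C A) with hq
  let K := x.ResidueField
  -- nontriviality of `S ⊗ K`
  have hqK : ∀ c ∈ q, algebraMap C K c = 0 := by
    intro c hc
    rw [IsScalarTower.algebraMap_apply C A K, Ideal.algebraMap_residueField_eq_zero]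
    exact hc
  let j : C ⧸ q →ₐ[C] K := Ideal.Quotient.liftₐ q (Algebra.ofId C K) hqK
  have hj : Function.Injective j := by
    rw [injective_iff_map_eq_zero]
    intro z hz
    obtain ⟨c, rfl⟩ := Ideal.Quotient.mk_surjective z
    have h1 : algebraMap C K c = 0 := hz
    rw [IsScalarTower.algebraMap_apply C A K, Ideal.algebraMap_residueField_eq_zero] at h1
    exact Ideal.Quotient.eq_zero_iff_mem.mpr h1
  have hinj : Function.Injective (Algebra.TensorProduct.map (AlgHom.id S S) j) :=
    Act.injective_map_of_injective C S K (C ⧸ q) j hj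
  have hqS' : ∀ c ∈ q, algebraMap C (ResidueField S) c = 0 := by
    intro c hc
    rw [IsScalarTower.algebraMap_apply C S (ResidueField S), ResidueField.algebraMap_eq,
      residue_eq_zero_iff, ← hqS]
    exact Ideal.mem_map_of_mem _ hc
  let ρ : S ⊗[C] (C ⧸ q) →ₐ[C] ResidueField S :=
    Algebra.TensorProduct.lift (IsScalarTower.toAlgHom C S (ResidueField S))
      (Ideal.Quotient.liftₐ q (Algebra.ofId C (ResidueField S)) hqS') (fun _ _ => Commute.all _ _)
  haveI : Nontrivial (S ⊗[C] (C ⧸ q)) := ρ.toRingHom.domain_nontrivial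
  haveI : Nontrivial (S ⊗[C] K) := hinj.nontrivial
  obtain ⟨𝔐, h𝔐⟩ := Ideal.exists_maximal (S ⊗[C] K)
  haveI := h𝔐.isPrime
  let ψ : S ⊗[C] A →ₐ[S] S ⊗[C] K :=
    Algebra.TensorProduct.map (AlgHom.id S S) (IsScalarTower.toAlgHom C A K)
  refine ⟨𝔐.comap ψ.toRingHom, Ideal.comap_isPrime _ _, ?_, ?_⟩
  · intro a
    rw [Ideal.mem_comap]
    change ψ ((1 : S) ⊗ₜ[C] a) ∈ 𝔐 ↔ _
    rw [Algebra.TensorProduct.map_tmul, AlgHom.id_apply, IsScalarTower.coe_toAlgHom']
    constructor
    · intro h
      by_contra hax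
      have hu : IsUnit (algebraMap A K a) := by
        rw [isUnit_iff_ne_zero, Ne, Ideal.algebraMap_residueField_eq_zero]
        exact hax
      have hu' : IsUnit ((1 : S) ⊗ₜ[C] algebraMap A K a) :=
        hu.map (Algebra.TensorProduct.includeRight : K →ₐ[C] S ⊗[C] K)
      exact h𝔐.ne_top (Ideal.eq_top_of_isUnit_mem _ h hu')
    · intro h
      rw [(Ideal.algebraMap_residueField_eq_zero).mpr h, TensorProduct.tmul_zero]
      exact 𝔐.zero_mem
  · have hcomap : (𝔐.comap ψ.toRingHom).comap (algebraMap S (S ⊗[C] A)) =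
        𝔐.comap (algebraMap S (S ⊗[C] K)) := by
      rw [Ideal.comap_comap]
      congr 1
      ext s
      exact ψ.commutes s
    rw [hcomap]
    have hle : maximalIdeal S ≤ 𝔐.comap (algebraMap S (S ⊗[C] K)) := by
      rw [← hqS, Ideal.map_le_iff_le_comap]
      intro c hc
      rw [Ideal.mem_comap, Ideal.mem_comap, ← IsScalarTower.algebraMap_apply C S (S ⊗[C] K),
        ← (Algebra.TensorProduct.includeRight : K →ₐ[C] S ⊗[C] K).commutes, hqK c hc, map_zero]
      exact 𝔐.zero_mem
    exact ((IsLocalRing.maximalIdeal.isMaximal S).eq_of_le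
      (Ideal.comap_ne_top _ h𝔐.ne_top) hle).symm

section main

variable (C S B A' A : Type u) [CommRing C] [CommRing S] [CommRing B] [CommRing A'] [CommRing A]
  [Algebra C S] [Algebra C B] [Algebra C A'] [Algebra C A] [Algebra B A] [Algebra A' A]
  [IsScalarTower C B A] [IsScalarTower C A' A]
  (G : Type*) [Group G] [Finite G] [MulSemiringAction G B] [MulSemiringAction G A]
  [SMulCommClass G C B] [SMulCommClass G C A]

/-- The totally inertial case over a strictly henselian flat `C`-algebra `S`: some prime `p₁` of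
`S ⊗[C] A'` above `x ∩ A'` has local ring `S`. -/
theorem exists_bijective_of_totallyInertial
    [HenselianLocalRing S] [IsSepClosed (ResidueField S)] [Module.Flat C S]
    (hCB : Function.Injective (algebraMap C B))
    (hBinv : ∀ b : B, (∀ g : G, g • b = b) → b ∈ Set.range (algebraMap C B))
    (hequiv : ∀ (g : G) (b : B), algebraMap B A (g • b) = g • algebraMap B A b)
    (hA'inj : Function.Injective (algebraMap A' A))
    (hA'fix : ∀ (g : G) (a' : A'), g • algebraMap A' A a' = algebraMap A' A a')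
    (hAinv : ∀ a : A, (∀ g : G, g • a = a) → a ∈ Set.range (algebraMap A' A))
    [Algebra.IsIntegral C B] [Algebra.FinitePresentation B A]
    (x : Ideal A) [x.IsPrime] (hin : ∀ (g : G) (a : A), g • a - a ∈ x) [Algebra.IsEtaleAt B x]
    (hqS : (x.comap (algebraMap C A)).map (algebraMap C S) = maximalIdeal S)
    (hSq : (maximalIdeal S).comap (algebraMap C S) = x.comap (algebraMap C A)) :
    ∃ (p₁ : Ideal (S ⊗[C] A')) (_ : p₁.IsPrime),
      (∀ a' : A', (1 : S) ⊗ₜ[C] a' ∈ p₁ ↔ algebraMap A' A a' ∈ x) ∧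
      Function.Bijective (algebraMap S (Localization.AtPrime p₁)) := by
  obtain ⟨x₁, hx₁p, hx₁A, hx₁S⟩ := exists_prime_tensor C S A x hqS
  letI actB := Act.action C S B G
  letI actA := Act.action C S A G
  letI algBA := BC.alg C S B A
  letI algA'A := BC.alg C S A' A
  haveI tBA : IsScalarTower S (S ⊗[C] B) (S ⊗[C] A) := BC.tower_S C S B A
  haveI tA'A : IsScalarTower S (S ⊗[C] A') (S ⊗[C] A) := BC.tower_S C S A' A
  -- the prime `y` of `B`
  set y : Ideal B := x.comap (algebraMap B A) with hy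
  have hyin : ∀ (g : G) (b : B), g • b - b ∈ y := by
    intro g b
    rw [hy, Ideal.mem_comap, map_sub, hequiv]
    exact hin g _
  have hyq : (maximalIdeal S).comap (algebraMap C S) = y.comap (algebraMap C B) := by
    rw [hSq, hy, Ideal.comap_comap, ← IsScalarTower.algebraMap_eq]
  haveI locB : IsLocalRing (S ⊗[C] B) := isLocalRing_tensor C S B G hCB hBinv y hyin hyq
  have hSB := injective_algebraMap_tensor C S B hCB
  have hBinv₁ : ∀ b : S ⊗[C] B, (∀ g : G, g • b = b) → b ∈ Set.range (algebraMap S (S ⊗[C] B)) :=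
    fun z hz => invariant_tensor C S B G hBinv z hz
  have hequiv₁ : ∀ (g : G) (b : S ⊗[C] B),
      algebraMap (S ⊗[C] B) (S ⊗[C] A) (g • b) = g • algebraMap (S ⊗[C] B) (S ⊗[C] A) b := by
    intro g b
    induction b using TensorProduct.induction_on with
    | zero => simp
    | tmul s b =>
      rw [Act.smul_tmul']
      change BC.mapHom C S B A (s ⊗ₜ[C] (g • b)) = g • BC.mapHom C S B A (s ⊗ₜ[C] b)
      rw [BC.mapHom_tmul, BC.mapHom_tmul, Act.smul_tmul', hequiv]
    | add x y hx hy => rw [smul_add, map_add, map_add, smul_add, hx, hy]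
  have hA'inj₁ : Function.Injective (algebraMap (S ⊗[C] A') (S ⊗[C] A)) :=
    Act.injective_map_of_injective C S A A' (IsScalarTower.toAlgHom C A' A) hA'inj
  have hA'fix₁ : ∀ (g : G) (a' : S ⊗[C] A'),
      g • algebraMap (S ⊗[C] A') (S ⊗[C] A) a' = algebraMap (S ⊗[C] A') (S ⊗[C] A) a' := by
    intro g a'
    induction a' using TensorProduct.induction_on with
    | zero => simp
    | tmul s a' =>
      change g • BC.mapHom C S A' A (s ⊗ₜ[C] a') = BC.mapHom C S A' A (s ⊗ₜ[C] a')
      rw [BC.mapHom_tmul, Act.smul_tmul', hA'fix]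
    | add x y hx hy => rw [map_add, smul_add, hx, hy]
  have hAinv₁ : ∀ a : S ⊗[C] A, (∀ g : G, g • a = a) →
      a ∈ Set.range (algebraMap (S ⊗[C] A') (S ⊗[C] A)) := fun z hz =>
    Act.mem_range_of_invariant C S A G A' (IsScalarTower.toAlgHom C A' A) hA'fix hAinv z hz
  have hin₁ : ∀ (g : G) (a : S ⊗[C] A), g • a - a ∈ x₁ := by
    intro g a
    induction a using TensorProduct.induction_on with
    | zero => simp
    | tmul s a =>
      rw [Act.smul_tmul', ← TensorProduct.tmul_sub]
      have h1 : (1 : S) ⊗ₜ[C] (g • a - a) ∈ x₁ := (hx₁A _).mpr (hin g a)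
      have h2 : s ⊗ₜ[C] (g • a - a) = (s ⊗ₜ[C] (1 : A)) * ((1 : S) ⊗ₜ[C] (g • a - a)) := by
        rw [Algebra.TensorProduct.tmul_mul_tmul, mul_one, one_mul]
      rw [h2]
      exact x₁.mul_mem_left _ h1
    | add a b ha hb =>
      have : g • (a + b) - (a + b) = (g • a - a) + (g • b - b) := by
        rw [smul_add]; abel
      rw [this]
      exact x₁.add_mem ha hb
  -- bijectivity of `S ⊗ B → (S ⊗ A)_{x₁}`
  haveI hensB : HenselianLocalRing (S ⊗[C] B) :=
    Groth.Agent.H3.HensIntegralLocal.henselianLocalRing_of_isIntegral S (S ⊗[C] B)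
  haveI sepB : IsSepClosed (ResidueField (S ⊗[C] B)) :=
    isSepClosed_residueField_of_isIntegral S (S ⊗[C] B)
  have hx₁B : x₁.comap (algebraMap (S ⊗[C] B) (S ⊗[C] A)) = maximalIdeal (S ⊗[C] B) := by
    haveI : (x₁.comap (algebraMap (S ⊗[C] B) (S ⊗[C] A))).IsPrime := Ideal.comap_isPrime _ _
    apply IsLocalRing.eq_maximalIdeal
    apply Ideal.IsIntegral.isMaximal_of_isMaximal_comap (R := S)
    rw [Ideal.comap_comap, ← IsScalarTower.algebraMap_eq, hx₁S]
    exact IsLocalRing.maximalIdeal.isMaximal S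
  obtain ⟨f, hfx, hfEt⟩ := Algebra.exists_etale_of_isEtaleAt (R := B) x
  have hgx₁ : (1 : S) ⊗ₜ[C] f ∉ x₁ := fun h => hfx ((hx₁A f).mp h)
  haveI tCBAf : IsScalarTower C B (Localization.Away f) := IsScalarTower.of_algebraMap_eq fun c => by
    rw [IsScalarTower.algebraMap_apply C A (Localization.Away f),
      IsScalarTower.algebraMap_apply C B A, ← IsScalarTower.algebraMap_apply B A]
  letI algAE := BC.alg C S A (Localization.Away f)
  letI algBE := BC.alg C S B (Localization.Away f)
  haveI tSBE : IsScalarTower S (S ⊗[C] B) (S ⊗[C] Localization.Away f) :=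
    BC.tower_S C S B (Localization.Away f)
  haveI tBAE : IsScalarTower (S ⊗[C] B) (S ⊗[C] A) (S ⊗[C] Localization.Away f) :=
    IsScalarTower.of_algebraMap_eq fun b => by
      change BC.mapHom C S B (Localization.Away f) b =
        BC.mapHom C S A (Localization.Away f) (BC.mapHom C S B A b)
      induction b using TensorProduct.induction_on with
      | zero => simp
      | tmul s b =>
        rw [BC.mapHom_tmul, BC.mapHom_tmul, BC.mapHom_tmul,
          ← IsScalarTower.algebraMap_apply B A (Localization.Away f)]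
      | add x y hx hy => rw [map_add, map_add, map_add, hx, hy]
  haveI locE : IsLocalization.Away ((1 : S) ⊗ₜ[C] f) (S ⊗[C] Localization.Away f) :=
    BC.isLocalization_away C S A (Localization.Away f) f
  haveI etE : Algebra.Etale (S ⊗[C] B) (S ⊗[C] Localization.Away f) :=
    BC.etale C S B (Localization.Away f)
  have hbij := bijective_algebraMap_atPrime_of_etale_away (S ⊗[C] B) (S ⊗[C] A) x₁ hx₁B
    ((1 : S) ⊗ₜ[C] f) hgx₁ (S ⊗[C] Localization.Away f)
  have hcore := core S (S ⊗[C] B) (S ⊗[C] A) (S ⊗[C] A') G hSB hBinv₁ hequiv₁ hA'inj₁ hA'fix₁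
    hAinv₁ x₁ hin₁ hbij
  refine ⟨x₁.comap (algebraMap (S ⊗[C] A') (S ⊗[C] A)), Ideal.comap_isPrime _ _, ?_, hcore⟩
  intro a'
  rw [Ideal.mem_comap]
  change BC.mapHom C S A' A ((1 : S) ⊗ₜ[C] a') ∈ x₁ ↔ _
  rw [BC.mapHom_tmul, hx₁A]

end main

end Groth.Agent.H68.IE
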