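import Groth.Agent.H68.InvEt.TotInert
import Groth.Agent.H68.InvEt.Descent
import Groth.Agent.H3.StrictHensMain
import Groth.Agent.H3.StrictHensMaxIdeal2
import Groth.Agent.H3.StrictHensUnique

/-!
# The totally inertial case: invariants are étale at the image point
-/

set_option autoImplicit false
universe u

open TensorProduct IsLocalRing

namespace Groth.Agent.H68.IE

section main

variable (C B A' A : Type u) [CommRing C] [CommRing B] [CommRing A'] [CommRing A]
  [Algebra C B] [Algebra C A'] [Algebra C A] [Algebra B A] [Algebra A' A]
  [IsScalarTower C B A] [IsScalarTower C A' A]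
  (G : Type*) [Group G] [Finite G] [MulSemiringAction G B] [MulSemiringAction G A]
  [SMulCommClass G C B] [SMulCommClass G C A]

/-- **Totally inertial case.** `G` acts on `B` with invariants `C` and on `A` with invariants `A'`,
compatibly with `B → A`; `x` is a prime of `A` at which `A` is étale over `B` and on whose residue
field... `G` acts trivially (`g • a - a ∈ x`). Then `A'` is étale over `C` at `x ∩ A'`. -/
theorem isEtaleAt_of_totallyInertial
    (hCB : Function.Injective (algebraMap C B))
    (hBinv : ∀ b : B, (∀ g : G, g • b = b) → b ∈ Set.range (algebraMap C B))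
    (hequiv : ∀ (g : G) (b : B), algebraMap B A (g • b) = g • algebraMap B A b)
    (hA'inj : Function.Injective (algebraMap A' A))
    (hA'fix : ∀ (g : G) (a' : A'), g • algebraMap A' A a' = algebraMap A' A a')
    (hAinv : ∀ a : A, (∀ g : G, g • a = a) → a ∈ Set.range (algebraMap A' A))
    [Algebra.IsIntegral C B] [Algebra.FinitePresentation B A] [Algebra.FinitePresentation C A']
    (x : Ideal A) [x.IsPrime] (hin : ∀ (g : G) (a : A), g • a - a ∈ x) [Algebra.IsEtaleAt B x] :
    Algebra.IsEtaleAt C (x.comap (algebraMap A' A)) := by
  set q := x.comap (algebraMap C A) with hq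
  let Cq := Localization.AtPrime q
  let S := Groth.Agent.H3.SH.S Cq
  letI : Algebra C S := ((algebraMap Cq S).comp (algebraMap C Cq)).toAlgebra
  have : IsScalarTower C Cq S := IsScalarTower.of_algebraMap_eq (fun _ => rfl)
  have hSH := Groth.Agent.H3.SH.isStrictHenselization Cq
  have : HenselianLocalRing S := hSH.henselian
  have : IsSepClosed (ResidueField S) := hSH.isSepClosure.sep_closed
  have : Module.Flat Cq S := Groth.Agent.H3.SH.flat_S Cq
  have : Module.Flat C Cq := IsLocalization.flat Cq q.primeCompl
  have : Module.Flat C S := Module.Flat.trans C Cq S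
  have hqS : q.map (algebraMap C S) = maximalIdeal S := by
    rw [IsScalarTower.algebraMap_eq C Cq S, ← Ideal.map_map,
      Localization.AtPrime.map_eq_maximalIdeal]
    exact Groth.Agent.H3.SH.map_maximalIdeal_eq Cq
  have hSq : (maximalIdeal S).comap (algebraMap C S) = q := by
    rw [IsScalarTower.algebraMap_eq C Cq S, ← Ideal.comap_comap]
    have hloc : IsLocalHom (algebraMap Cq S) := inferInstance
    have h1 : (maximalIdeal S).comap (algebraMap Cq S) = maximalIdeal Cq :=
      IsLocalRing.maximalIdeal_comap (algebraMap Cq S)
    rw [h1]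
    exact Localization.AtPrime.under_maximalIdeal
  obtain ⟨p₁, hp₁, hp, hbij⟩ := exists_bijective_of_totallyInertial C S B A' A G hCB hBinv hequiv
    hA'inj hA'fix hAinv x hin hqS hSq
  exact isEtaleAt_of_bijective_tensor C S A' (x.comap (algebraMap A' A)) p₁
    (fun a' => by rw [hp a', Ideal.mem_comap]) hbij

end main

end Groth.Agent.H68.IE
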